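import Groth.Agent.Lib.RegSheaf.ProjK
import Groth.Agent.Lib.RegSheaf.Good
import Groth.Agent.Lib.RelVanish.Basic
import Groth.Agent.Lib.RpushSupp20.Main
import Groth.Agent.Lib.K0Sub.PushComp

/-!
# Acyclicity of modules for morphisms
-/

set_option autoImplicit false
set_option backward.isDefEq.respectTransparency false
set_option linter.style.haveILetI false
universe u

open CategoryTheory CategoryTheory.Limits AlgebraicGeometry TopologicalSpace Opposite Abelian

noncomputable section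

namespace GrothLib.PushKR17

open RegSheaf

variable {X Y Z : Scheme.{u}}

/-- No cohomology in positive degrees on preimages of affine opens. -/
abbrev Acy (f : X ⟶ Y) (M : X.Modules) : Prop := Cohom.AcyclicOn f.base Y.affineOpens (Coh.toAb M)

theorem acy_of_iso {f : X ⟶ Y} {M N : X.Modules} (e : M ≅ N) (h : Acy f M) : Acy f N :=
  Cohom.acyclicOn_of_iso f.base _ ((QCoh.toAbFun X).mapIso e) h

theorem acy_affine (f : X ⟶ Y) [IsAffineHom f] (M : X.Modules) [M.IsQuasicoherent] : Acy f M :=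
  Cohom.acyclicOn_of_isAffineHom f M

theorem van_of_acy {f : X ⟶ Y} {M : X.Modules} (h : Acy f M) {q : ℕ} (hq : 0 < q) : Van f M q := by
  obtain ⟨k, rfl⟩ : ∃ k, q = k + 1 := ⟨q - 1, by omega⟩
  exact Cohom.isZero_RpushAb_of_acyclicOn f _ h k

theorem acy_of_van (f : X ⟶ Y) [QuasiCompact f] [QuasiSeparated f] {M : X.Modules} [M.IsQuasicoherent]
    (h : ∀ q, 0 < q → Van f M q) : Acy f M := fun W hW n => by
  haveI := RpushSupp20.hasInjectiveResolutions X
  have h1 := RelVanish.subsingleton_HHon_of_isZero_Rpush f M (n + 1) (V := W) hW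
    (RegSheaf.isZero_Rpush_of_Van f M (n + 1) (h _ n.succ_pos))
  obtain ⟨e⟩ := Cohom.nonempty_HHon_equiv M (f ⁻¹ᵁ W) (n + 1)
  exact e.toEquiv.symm.subsingleton

theorem ext_equiv {f : X ⟶ Y} {M : X.Modules} (h : Acy f M) (V : Y.Opens) (n : ℕ) :
    Nonempty (Ext.{u} (Cohom.freeFun.obj (f ⁻¹ᵁ V)) (Coh.toAb M) n ≃+
      Ext.{u} (Cohom.freeFun.obj V) (Coh.toAb ((Scheme.Modules.pushforward f).obj M)) n) := by
  obtain ⟨c⟩ := Cohom.nonempty_comparison_pushFun f.base Y.isBasis_affineOpens V n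
  exact ⟨c.equiv (Coh.toAb M) h⟩

theorem acy_comp_iff (f : X ⟶ Y) (g : Y ⟶ Z) {M : X.Modules} (h : Acy f M) :
    Acy (f ≫ g) M ↔ Acy g ((Scheme.Modules.pushforward f).obj M) := by
  constructor <;> intro h' W hW n <;>
    obtain ⟨e⟩ := ext_equiv h ((Opens.map g.base).obj W) (n + 1)
  · haveI : Subsingleton (Ext.{u} (Cohom.freeFun.obj (f ⁻¹ᵁ ((Opens.map g.base).obj W))) (Coh.toAb M) (n + 1)) :=
      h' W hW n
    exact e.toEquiv.symm.subsingleton
  · haveI := h' W hW n
    exact e.toEquiv.subsingleton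

theorem shortExact_push {f : X ⟶ Y} {T : ShortComplex X.Modules} (hT : T.ShortExact) (h₁ : Acy f T.X₁) :
    (T.map (Scheme.Modules.pushforward f)).ShortExact :=
  Cohom.pushforward_map_shortExact f hT h₁

theorem isCoh_push (f : X ⟶ Y) [IsProper f] [IsLocallyNoetherian Y] {M : X.Modules} (hM : Coh.IsCoh M) :
    Coh.IsCoh ((Scheme.Modules.pushforward f).obj M) := by
  haveI := RpushSupp20.hasInjectiveResolutions X
  haveI : PreservesFiniteLimits (Scheme.Modules.pushforward f) := by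
    haveI : PreservesLimitsOfSize.{0, 0} (Scheme.Modules.pushforward f) :=
      (Scheme.Modules.pullbackPushforwardAdjunction f).rightAdjoint_preservesLimits
    exact PreservesLimitsOfSize.preservesFiniteLimits.{0, 0} _
  exact QCoh.isCoh_of_iso ((Scheme.Modules.pushforward f).rightDerivedZeroIsoSelf.app M)
    (Cohom.isCoh_Rpush f M hM 0)

theorem isNoetherian_of_closedImmersion (i : X ⟶ Y) [IsClosedImmersion i] [IsNoetherian Y] : IsNoetherian X where
  toIsLocallyNoetherian := LocallyOfFiniteType.isLocallyNoetherian i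
  toCompactSpace := i.isClosedEmbedding.compactSpace

theorem isNoetherian_PY (n : ℕ) (Y : Scheme.{u}) [IsNoetherian Y] : IsNoetherian (KRR.PY n Y) where
  toIsLocallyNoetherian := LocallyOfFiniteType.isLocallyNoetherian (KRR.pr n Y)
  toCompactSpace := QuasiCompact.compactSpace_of_compactSpace (KRR.pr n Y)

/-- On `P^n`, regularity gives acyclicity of all nonnegative twists. -/
theorem acy_twF_of_reg {n : ℕ} {F : (KRR.PY n Y).Modules} [IsLocallyNoetherian Y] (hF : Coh.IsCoh F)
    (h : KRR.IsRegSheaf n Y F) (t : ℕ) : Acy (KRR.pr n Y) (KRR.twF n Y (t : ℤ) F) :=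
  haveI := (RegSheaf.isCoh_twF hF (t : ℤ)).1
  acy_of_van _ fun _ hq => van_zero_twist (isRegSheaf_twF_nat h t) hq

theorem exists_acy_twF {n : ℕ} [IsNoetherian Y] {F : (KRR.PY n Y).Modules} (hF : Coh.IsCoh F) :
    ∃ m₀ : ℕ, ∀ m, m₀ ≤ m → Acy (KRR.pr n Y) (KRR.twF n Y (m : ℤ) F) := by
  obtain ⟨m₀, h⟩ := exists_regular hF
  exact ⟨m₀, fun m hm => haveI := (RegSheaf.isCoh_twF hF (m : ℤ)).1
    acy_of_van _ fun _ hq => van_zero_twist (h m hm) hq⟩

end GrothLib.PushKR17
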