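import Groth.Agent.Lib.PushKR17.TorInd
import Groth.Agent.Lib.K0Sub.PushClass
import Groth.Agent.Lib.RegImm12.ConormalSeq
import Groth.Agent.Lib.RelReg.FibreLift
import Groth.Agent.Lib.Euler.Rank
import Groth.Agent.Lib.FinCov.Frame
import Groth.Agent.Lib.Adj27.Chart
import Groth.Agent.Lib.OX.PullbackStalk

/-!
# Tor independence of regular closed immersions of the same codimension
-/

set_option autoImplicit false
set_option linter.style.haveILetI false
universe u

open CategoryTheory CategoryTheory.Limits AlgebraicGeometry RingTheory.Sequence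
open scoped TensorProduct

noncomputable section

namespace GrothLib.PushKR17

variable {X Y P M : Scheme.{u}}

/-- A regular closed immersion is cut out at each stalk by a regular sequence of length the rank of its
conormal module. -/
theorem exists_seq_stalk {F : P ⟶ M} (hF : Mor2.IsRegularClosedImmersion F) {d : ℕ}
    (hc : FlatMod.IsFinLocFreeOfRank d (Omega.conormal F)) (z : P) :
    ∃ rs : List (M.presheaf.stalk (F z)), rs.length = d ∧ IsWeaklyRegular (M.presheaf.stalk (F z)) rs ∧
      RingHom.ker (F.stalkMap z).hom = Ideal.ofList rs := by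
  haveI := hF.1
  obtain ⟨U, hU, hzU, rs, hreg, hker⟩ := hF.2 z
  letI : Algebra Γ(M, U) (M.presheaf.stalk (F z)) :=
    TopCat.Presheaf.algebra_section_stalk M.presheaf (⟨F z, hzU⟩ : U)
  haveI := hU.isLocalization_stalk ⟨F z, hzU⟩
  refine ⟨rs.map (algebraMap Γ(M, U) (M.presheaf.stalk (F z))), ?_,
    hreg.toIsWeaklyRegular.of_isLocalization _ (hU.primeIdealOf ⟨F z, hzU⟩).asIdeal.primeCompl, ?_⟩
  · rw [List.length_map]
    have hT : IsAffineOpen (F ⁻¹ᵁ U) := hU.preimage F
    have hs : F.ker.ideal ⟨U, hU⟩ = Ideal.span (Set.range rs.get) := by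
      rw [hker, Set.range_list_get]
    have hh1 := GrothLib.SeqKinds.isH1Regular_of_isKoszulRegularSeq rs
      (GrothLib.KoszulFwd.isKoszulRegularSeq_of_isWeaklyRegular _ hreg.toIsWeaklyRegular)
    obtain ⟨e⟩ := GrothLib.RegImm12.exists_equiv_sections F F.ker le_rfl ⟨U, hU⟩ rs.get hs
      (fun a ha k => hs ▸ GrothLib.RegImm12.mem_span_of_h1 hh1 ha k) ⟨F ⁻¹ᵁ U, hT⟩ le_rfl
    haveI := H1Sheaf6.isQuasicoherent_idealMod F.ker
    haveI : (Omega.conormal F).IsQuasicoherent := FittSheaf.isQuasicoherent_pullback F _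
    have hfr : FinCov.IsFrame (Omega.conormal F) (F ⁻¹ᵁ U) (fun k => e (Pi.single k 1)) := by
      refine Adj27.isFrame_of_affine _ hT _ ?_
      have : ⇑(Fintype.linearCombination Γ(P, F ⁻¹ᵁ U) fun k => e (Pi.single k 1)) = ⇑e := funext fun b => by
        rw [Fintype.linearCombination_apply]
        simp only [← map_smul, ← map_sum]
        congr 1
        funext k
        simp [Finset.sum_apply, Pi.single_apply]
      show Function.Bijective ⇑(Fintype.linearCombination Γ(P, F ⁻¹ᵁ U) fun k => e (Pi.single k 1))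
      rw [this]
      exact e.bijective
    obtain ⟨b⟩ := Euler.stalk_basis_of_frame hfr (x := z) hzU
    obtain ⟨V, e', hzV, he'⟩ := FinCov.exists_frame_nhd_of_rank hc z
    obtain ⟨b'⟩ := Euler.stalk_basis_of_frame he' hzV
    simpa using Fintype.card_congr (b.indexEquiv b')
  · rw [GrothLib.RelReg.ker_stalkMap_eq_map F hU inferInstance z hzU, ← Scheme.Hom.ker_apply F ⟨U, hU⟩,
      hker, ← Ideal.map_ofList]
    rfl

/-- The stalk of the direct image of a bundle under a closed immersion. -/
theorem exists_equiv_stalk_push (F : P ⟶ M) [IsClosedImmersion F] [IsNoetherian P] {E : P.Modules}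
    (hE : FlatMod.IsFinLocFree E) (z : P) :
    ∃ r, Nonempty ((Fin r → M.presheaf.stalk (F z) ⧸ RingHom.ker (F.stalkMap z).hom) ≃ₗ[M.presheaf.stalk (F z)]
      ((OX.stalk (F z)).obj ((Scheme.Modules.pushforward F).obj E))) := by
  let R₀ := M.presheaf.stalk (F z)
  let φ := (F.stalkMap z).hom
  haveI := (Euler.isCoh_of_isFinLocFree hE).1
  haveI : Module.Free (P.presheaf.stalk z) (E.presheaf.stalk z) :=
    ((LocFree8.isFinLocFree_iff_fp_free (M := E)).1 hE).2 z
  haveI : Module.Finite (P.presheaf.stalk z) (E.presheaf.stalk z) :=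
    GrothLib.QuasiFlat.finite_stalk E (Euler.isCoh_of_isFinLocFree hE) z
  let b := Module.finBasis (P.presheaf.stalk z) (E.presheaf.stalk z)
  let ψ : (Fin _ → R₀ ⧸ RingHom.ker φ) ≃ₗ[R₀] ((ModuleCat.restrictScalars φ).obj ((OX.stalk z).obj E)) :=
    LinearEquiv.ofBijective
      ({ toFun := fun v => (b.equivFun.symm fun k => RingHom.quotientKerEquivOfSurjective (F.stalkMap_surjective z) (v k) :
          ((ModuleCat.restrictScalars φ).obj ((OX.stalk z).obj E)))
         map_add' := fun v w => (congrArg b.equivFun.symm (funext fun k => map_add _ (v k) (w k))).trans (map_add _ _ _)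
         map_smul' := fun r v => (congrArg b.equivFun.symm (funext fun k =>
            (congrArg _ (Algebra.smul_def r (v k))).trans (map_mul _ _ _))).trans (map_smul b.equivFun.symm (φ r) _) } :
        (Fin _ → R₀ ⧸ RingHom.ker φ) →ₗ[R₀] ((ModuleCat.restrictScalars φ).obj ((OX.stalk z).obj E)))
      (b.equivFun.symm.bijective.comp
        (Equiv.piCongrRight fun _ => (RingHom.quotientKerEquivOfSurjective (F.stalkMap_surjective z)).toEquiv).bijective)
  exact ⟨_, ⟨ψ.trans (LinearEquiv.ofBijective (QCoh.pushStalkHom F z E).hom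
    (QCoh.pushStalkHom_bijective F z E F.isClosedEmbedding.isInducing)).symm⟩⟩

theorem torInd_push_at [IsNoetherian P] [IsLocallyNoetherian Y] {F : P ⟶ M}
    (hF : Mor2.IsRegularClosedImmersion F) {d : ℕ} (hc : FlatMod.IsFinLocFreeOfRank d (Omega.conormal F))
    {E : P.Modules} (hE : FlatMod.IsFinLocFree E) (z : P) {m : M} (hm : m = F z) {y : Y}
    (g : M.presheaf.stalk m ⟶ Y.presheaf.stalk y) (ss : List (Y.presheaf.stalk y))
    (hss : IsWeaklyRegular (Y.presheaf.stalk y) ss) (hlen : ss.length = d) (hne : Ideal.ofList ss ≠ ⊤)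
    (hI : (RingHom.ker (F.stalkMap z).hom).map ((M.presheaf.stalkCongr (.of_eq hm.symm)).hom ≫ g).hom =
      Ideal.ofList ss) :
    letI := g.hom.toAlgebra
    TorInd (M.presheaf.stalk m) (Y.presheaf.stalk y) ((OX.stalk m).obj ((Scheme.Modules.pushforward F).obj E)) := by
  subst hm
  letI := g.hom.toAlgebra
  haveI := hF.1
  obtain ⟨rs, hl, hrs, hker⟩ := exists_seq_stalk hF hc z
  obtain ⟨r, ⟨e⟩⟩ := exists_equiv_stalk_push F hE z
  refine torInd_congr e (torInd_pi ?_ r)
  have hI' : Ideal.ofList (rs.map g.hom) = Ideal.ofList ss := by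
    rw [← hI, hker, Ideal.map_ofList]
    simp
  have h := torInd_quotient (C := Y.presheaf.stalk y) rs hrs
    (isWeaklyRegular_of_span_eq _ ss hss hne hI' (by rw [List.length_map, hl, hlen]))
  rwa [hker]

/-- Direct images of bundles along `F` have no higher Tor against the local rings of `Y`. -/
theorem torInd_stalk_push {F : P ⟶ M} {φ : Y ⟶ M} {f : X ⟶ Y} {ψ : X ⟶ P} (hsq : IsPullback f ψ φ F)
    (hF : Mor2.IsRegularClosedImmersion F) (hf : Mor2.IsRegularClosedImmersion f) {d : ℕ}
    (hcF : FlatMod.IsFinLocFreeOfRank d (Omega.conormal F)) (hcf : FlatMod.IsFinLocFreeOfRank d (Omega.conormal f))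
    [IsNoetherian P] [IsLocallyNoetherian Y] {E : P.Modules} (hE : FlatMod.IsFinLocFree E) (y : Y) :
    letI := (φ.stalkMap y).hom.toAlgebra
    TorInd (M.presheaf.stalk (φ y)) (Y.presheaf.stalk y)
      ((OX.stalk (φ y)).obj ((Scheme.Modules.pushforward F).obj E)) := by
  letI := (φ.stalkMap y).hom.toAlgebra
  haveI := hF.1
  by_cases hy : φ y ∈ Set.range F
  swap
  · haveI : Subsingleton (((Scheme.Modules.pushforward F).obj E).presheaf.stalk (φ y)) :=
      not_not.1 fun h => hy (QCoh.support_pushforward_subset_range F E h)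
    haveI : Module.Free (M.presheaf.stalk (φ y))
      ((OX.stalk (φ y)).obj ((Scheme.Modules.pushforward F).obj E)) := @Module.Free.of_subsingleton _ _ _ _ _ ‹_›
    exact torInd_projective _
  obtain ⟨z, hz⟩ := hy
  obtain ⟨x, rfl, hx⟩ := Scheme.exists_preimage_of_isPullback hsq y z hz.symm
  subst hx
  obtain ⟨ss, hl, hss, hker⟩ := exists_seq_stalk hf hcf x
  obtain ⟨U, hU, hzU, -⟩ := hF.2 (ψ x)
  haveI : IsClosedImmersion (F ∣_ U) := IsZariskiLocalAtTarget.restrict (P := @IsClosedImmersion) hF.1 U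
  refine torInd_push_at hF hcF hE (ψ x) hz.symm (φ.stalkMap (f x)) ss hss hl ?_ ?_
  · rw [← hker]; exact RingHom.ker_ne_top _
  · rw [← hker, GrothLib.RelReg.ker_stalkMap_of_isPullback hsq.flip ⟨U, hU⟩ inferInstance (ψ x) hzU x hz.symm]

theorem shortExact_pullback (φ : Y ⟶ M) {S : ShortComplex M.Modules} (hS : S.ShortExact)
    (h₂ : ∀ y : Y, letI := (φ.stalkMap y).hom.toAlgebra
      TorInd (M.presheaf.stalk (φ y)) (Y.presheaf.stalk y) ((OX.stalk (φ y)).obj S.X₂))
    (h₃ : ∀ y : Y, letI := (φ.stalkMap y).hom.toAlgebra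
      TorInd (M.presheaf.stalk (φ y)) (Y.presheaf.stalk y) ((OX.stalk (φ y)).obj S.X₃)) :
    (S.map (Scheme.Modules.pullback φ)).ShortExact := by
  haveI : (Scheme.Modules.pullback φ).IsLeftAdjoint :=
    (Scheme.Modules.pullbackPushforwardAdjunction φ).isLeftAdjoint
  haveI : PreservesFiniteColimits (Scheme.Modules.pullback φ) := ⟨fun J _ _ => inferInstance⟩
  haveI := hS.epi_g
  refine { exact := ?_, mono_f := ?_, epi_g := ?_ }
  · exact hS.exact.map_of_epi_of_preservesCokernel _ hS.epi_g inferInstance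
  · refine (OX.mono_iff _).2 fun y => ?_
    letI := (φ.stalkMap y).hom.toAlgebra
    have hinj := (torInd_X₁ (B := Y.presheaf.stalk y) (hS.map_of_exact (OX.stalk (φ y))) (h₂ y) (h₃ y)).2
    refine ((MorphismProperty.monomorphisms _).arrow_mk_iso_iff
      (Arrow.isoMk ((OX.pullStalkIso φ y).app S.X₁) ((OX.pullStalkIso φ y).app S.X₂)
        ((OX.pullStalkIso φ y).hom.naturality S.f).symm)).2 ?_
    exact (ModuleCat.mono_iff_injective _).2 hinj
  · exact inferInstanceAs (Epi ((Scheme.Modules.pullback φ).map S.g))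

end GrothLib.PushKR17
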