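import Groth.Agent.Lib.PushKR17.Twist
import Groth.Agent.Lib.K0Sub.PushComp

/-!
# The push-forward on `K` of resolved acyclic modules
-/

set_option autoImplicit false
set_option backward.isDefEq.respectTransparency false
set_option linter.style.haveILetI false
set_option maxHeartbeats 800000
set_option linter.unusedSectionVars false
set_option linter.unusedVariables false
universe v u

open CategoryTheory CategoryTheory.Limits AlgebraicGeometry TopologicalSpace Opposite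
open GrothLib.CMReg (tw twPow kos cyc cycSeq Covers)

noncomputable section

namespace GrothLib.PushKR17

open RegSheaf
open K0Sub (R cohP resHyp_vb)

variable {X Y Z : Scheme.{u}} {n : ℕ}

/-- The module has a class in `K(Y)`. -/
abbrev HasR (M : Y.Modules) (c : SGA6.Kvb Y) : Prop := ∃ k, R (KRR.vbP Y) (cohP Y) k M c

theorem HasR.of_vb {M : Y.Modules} (h : FlatMod.IsFinLocFree M) : HasR M (KRR.cl Y M) := ⟨0, h, rfl⟩

theorem HasR.unique [IsLocallyNoetherian Y] (hY : KRR.HasEnoughLocFree Y) {M : Y.Modules} {a b : SGA6.Kvb Y}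
    (ha : HasR M a) (hb : HasR M b) : a = b := by
  obtain ⟨k, hk⟩ := ha
  obtain ⟨l, hl⟩ := hb
  exact R.unique (resHyp_vb hY) (R.mono (resHyp_vb hY) (le_max_left k l) hk)
    (R.mono (resHyp_vb hY) (le_max_right k l) hl)

theorem HasR.of_iso [IsLocallyNoetherian Y] (hY : KRR.HasEnoughLocFree Y) {M N : Y.Modules} (e : M ≅ N)
    {a : SGA6.Kvb Y} (ha : HasR M a) : HasR N a :=
  ⟨_, R.of_iso (resHyp_vb hY) e ha.choose_spec⟩

theorem HasR.add [IsLocallyNoetherian Y] (hY : KRR.HasEnoughLocFree Y) {S : ShortComplex Y.Modules}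
    (hS : S.ShortExact) {a b : SGA6.Kvb Y} (ha : HasR S.X₁ a) (hb : HasR S.X₃ b) : HasR S.X₂ (a + b) :=
  R.add (resHyp_vb hY) S hS ha.choose_spec hb.choose_spec

theorem HasR.ker [IsNoetherian Y] (hY : KRR.HasEnoughLocFree Y) {S : ShortComplex Y.Modules}
    (hS : S.ShortExact) (h₁ : Coh.IsCoh S.X₁) {b c : SGA6.Kvb Y} (hb : HasR S.X₂ b) (hc : HasR S.X₃ c) :
    ∃ a, HasR S.X₁ a ∧ b = a + c := by
  obtain ⟨k, hk⟩ := hb
  obtain ⟨l, hl⟩ := hc
  have hp : ∀ y, HasProjectiveDimensionLT ((OX.stalk y).obj S.X₁) (max k l + 1) := fun y =>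
    (hS.map_of_exact (OX.stalk y)).hasProjectiveDimensionLT_X₁ (max k l + 1)
      (Serre.pdLE_mono (le_max_left k l) (K0Sub.pd_of_R k _ _ hk y))
      (Serre.pdLE_mono ((le_max_right k l).trans (Nat.le_succ _)) (K0Sub.pd_of_R l _ _ hl y))
  obtain ⟨a, ha⟩ := K0Sub.exists_R_of_pd hY _ S.X₁ h₁ hp
  exact ⟨a, ⟨_, ha⟩, HasR.unique hY ⟨k, hk⟩ (HasR.add hY hS ⟨_, ha⟩ ⟨l, hl⟩)⟩

/-- Twisting on `K` of `P^n`. -/
theorem exists_tau (d : ℤ) : ∃ τ : SGA6.Kvb (KRR.PY n Y) →+ SGA6.Kvb (KRR.PY n Y),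
    ∀ L : (KRR.PY n Y).Modules, FlatMod.IsFinLocFree L → τ (KRR.cl _ L) = KRR.cl _ (KRR.twF n Y d L) :=
  K0Sub.exists_lift (P := KRR.vbP (KRR.PY n Y)) (fun L => KRR.cl _ (KRR.twF n Y d L)) fun S hS h₁ h₂ h₃ =>
    K0Sub.clSub_add (P := KRR.vbP (KRR.PY n Y)) (twF_map_shortExact d hS) (RegSheaf.isFinLocFree_twF h₁ d)
      (RegSheaf.isFinLocFree_twF h₂ d) (RegSheaf.isFinLocFree_twF h₃ d)

theorem mem_kos {X : Scheme.{u}} (c : Ample.Cocycle X) (a : ℕ → c.sect 1 ⊤) (P : ObjectProperty X.Modules)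
    (hz : ∀ Z : X.Modules, IsZero Z → P Z) (hb : ∀ A B : X.Modules, P A → P B → P (A ⊞ B)) :
    ∀ (r j : ℕ) (M : X.Modules), P ((twPow c j).obj M) → P (((kos c a r).K j).obj M) := by
  intro r
  induction r with
  | zero =>
    intro j M h
    cases j with
    | zero => exact h
    | succ j => exact hz _ (CMReg.isZero_kos c a 0 (j + 1) j.succ_pos M)
  | succ r ih =>
    intro j M h
    cases j with
    | zero => exact ih 0 M h
    | succ j => exact hb _ _ (ih (j + 1) M h) (ih j ((tw c).obj M) h)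

/-- Coherent, acyclic and with a class of the direct image. -/
abbrev resP (n : ℕ) (Y : Scheme.{u}) : ObjectProperty (KRR.PY n Y).Modules := fun M =>
  Coh.IsCoh M ∧ (∀ q, 0 < q → Van (KRR.pr n Y) M q) ∧
    ∃ c, HasR ((Scheme.Modules.pushforward (KRR.pr n Y)).obj M) c

variable [IsNoetherian Y]

theorem resP_of_isZero {Z : (KRR.PY n Y).Modules} (hZ : IsZero Z) : resP n Y Z :=
  ⟨Euler.isCoh_of_isFinLocFree (DCoh.isFinLocFree_of_isZero hZ), fun q _ => van_of_isZero _ hZ q,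
    _, HasR.of_vb (DCoh.isFinLocFree_of_isZero ((Scheme.Modules.pushforward (KRR.pr n Y)).map_isZero hZ))⟩

theorem resP_biprod (hY : KRR.HasEnoughLocFree Y) (A B : (KRR.PY n Y).Modules) (hA : resP n Y A)
    (hB : resP n Y B) : resP n Y (A ⊞ B) := by
  haveI := isNoetherian_PY n Y
  have hS := (ShortComplex.Splitting.ofHasBinaryBiproduct A B).shortExact
  obtain ⟨a, ha⟩ := hA.2.2
  obtain ⟨b, hb⟩ := hB.2.2
  refine ⟨K0Sub.isCoh_ext _ hS hA.1 hB.1, fun q hq => ?_, _,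
    HasR.add hY (shortExact_map_pushforward (KRR.pr n Y) hS (hA.2.1 1 one_pos)) ha hb⟩
  obtain ⟨k, rfl⟩ : ∃ k, q = k + 1 := ⟨q - 1, by omega⟩
  exact van_biprod _ (hA.2.1 _ hq) (hB.2.1 _ hq)

theorem resP_of_iso (hY : KRR.HasEnoughLocFree Y) {A B : (KRR.PY n Y).Modules} (e : A ≅ B) (h : resP n Y A) :
    resP n Y B :=
  ⟨QCoh.isCoh_of_iso e h.1, fun q hq => van_of_iso _ e (h.2.1 q hq),
    h.2.2.imp fun _ hc => hc.of_iso hY ((Scheme.Modules.pushforward (KRR.pr n Y)).mapIso e)⟩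

/-- The class of the direct image, on the `K` of resolved acyclic modules. -/
theorem exists_val (hY : KRR.HasEnoughLocFree Y) :
    ∃ V : KZero.K0sub (resP n Y) →+ SGA6.Kvb Y, ∀ M : (KRR.PY n Y).Modules, resP n Y M →
      HasR ((Scheme.Modules.pushforward (KRR.pr n Y)).obj M) (V (KZero.clSub (resP n Y) M)) := by
  classical
  let χ : (KRR.PY n Y).Modules → SGA6.Kvb Y := fun M => if h : resP n Y M then h.2.2.choose else 0
  have hχ : ∀ M, resP n Y M → HasR ((Scheme.Modules.pushforward (KRR.pr n Y)).obj M) (χ M) := fun M h => by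
    simp only [χ, dif_pos h]
    exact h.2.2.choose_spec
  obtain ⟨V, hV⟩ := K0Sub.exists_lift (P := resP n Y) χ fun S hS h₁ h₂ h₃ =>
    HasR.unique hY (hχ _ h₂)
      (HasR.add hY (shortExact_map_pushforward (KRR.pr n Y) hS (h₁.2.1 1 one_pos)) (hχ _ h₁) (hχ _ h₃))
  exact ⟨V, fun M hM => by rw [hV M hM]; exact hχ M hM⟩

/-- Descending along the Koszul sequence. -/
theorem resP_cyc (hY : KRR.HasEnoughLocFree Y) {M : (KRR.PY n Y).Modules} (hM : Coh.IsCoh M)
    (hvan : ∀ s q : ℕ, 0 < q → Van (KRR.pr n Y) ((twPow (cT n Y) s).obj M) q)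
    (h : ∀ s, 1 ≤ s → s ≤ n + 1 → resP n Y ((twPow (cT n Y) s).obj M)) :
    ∀ d j, j + d = n + 1 → 1 ≤ j → resP n Y (cyc (cT n Y) (aT n Y) (n + 1) M j) := by
  haveI := isNoetherian_PY n Y
  intro d
  induction d with
  | zero =>
    intro j hj _
    obtain rfl : j = n + 1 := by omega
    have hd : ((kos (cT n Y) (aT n Y) (n + 1)).d (n + 1)).app M = 0 :=
      (CMReg.isZero_kos _ _ (n + 1) (n + 2) (n + 1).lt_succ_self M).eq_of_tgt _ _
    haveI := CMReg.isIso_top (cT n Y) (aT n Y) (n + 1) M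
    exact resP_of_iso hY (((eqToIso (congrArg (fun φ => kernel φ) hd) ≪≫ kernelZeroIsoSource) ≪≫
      asIso ((CMReg.top (cT n Y) (aT n Y) (n + 1)).app M)).symm) (h _ (by omega) le_rfl)
  | succ d ih =>
    intro j hj hj1
    have hS := CMReg.shortExact_cycSeq (covers n Y) M j
    have hK : resP n Y (((kos (cT n Y) (aT n Y) (n + 1)).K j).obj M) :=
      mem_kos (cT n Y) (aT n Y) (resP n Y) (fun _ hZ => resP_of_isZero hZ) (resP_biprod hY) _ j M
        (h j hj1 (by omega))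
    have h3 := ih (j + 1) (by omega) (by omega)
    have hv : ∀ q, 0 < q → Van (KRR.pr n Y) (cyc (cT n Y) (aT n Y) (n + 1) M j) q := fun q hq => by
      obtain ⟨k, rfl⟩ : ∃ k, q = k + 1 := ⟨q - 1, by omega⟩
      exact van_cyc _ (covers n Y) M j k fun s _ => hvan s _ (by omega)
    have hc : Coh.IsCoh (cyc (cT n Y) (aT n Y) (n + 1) M j) :=
      K0Sub.isCoh_ker (cycSeq (cT n Y) (aT n Y) (n + 1) M j) hS hK.1 h3.1
    obtain ⟨b, hb⟩ := hK.2.2
    obtain ⟨c, hc'⟩ := h3.2.2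
    obtain ⟨a, ha, -⟩ := HasR.ker hY (shortExact_map_pushforward (KRR.pr n Y) hS (hv 1 one_pos))
      (isCoh_push (KRR.pr n Y) hc) hb hc'
    exact ⟨hc, hv, a, ha⟩

/-- A module all of whose twists are acyclic and whose positive twists are resolved. -/
theorem resP_and_relation (hY : KRR.HasEnoughLocFree Y) {M : (KRR.PY n Y).Modules} (hM : Coh.IsCoh M)
    (hvan : ∀ s q : ℕ, 0 < q → Van (KRR.pr n Y) ((twPow (cT n Y) s).obj M) q)
    (h : ∀ s, 1 ≤ s → s ≤ n + 1 → resP n Y ((twPow (cT n Y) s).obj M)) :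
    resP n Y M ∧ KZero.clSub (resP n Y) M =
      ∑ i ∈ Finset.range (n + 1), coef n i • KZero.clSub (resP n Y) ((twPow (cT n Y) (i + 1)).obj M) := by
  have hcyc := resP_cyc hY hM hvan h
  have h0 : resP n Y M := by
    have hS := CMReg.shortExact_cycSeq (covers n Y) M 0
    haveI := hS.mono_f
    haveI := hS.epi_g
    have hiso : IsIso (cycSeq (cT n Y) (aT n Y) (n + 1) M 0).g :=
      hS.isIso_g_iff.2 (CMReg.isZero_cyc_zero (covers n Y) M)
    have h1 : resP n Y (((kos (cT n Y) (aT n Y) (n + 1)).K 0).obj M) :=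
      resP_of_iso hY (@asIso _ _ _ _ _ hiso).symm (hcyc n 1 (by omega) le_rfl)
    have hK0 : ∀ r, ((kos (cT n Y) (aT n Y) r).K 0).obj M = M := fun r => by
      induction r with
      | zero => rfl
      | succ r ih => exact ih
    rwa [hK0] at h1
  refine ⟨h0, ?_⟩
  have hP : ∀ i, i ≤ n + 1 → resP n Y ((twPow (cT n Y) i).obj M) := fun i hi => by
    rcases Nat.eq_zero_or_pos i with rfl | hi'
    · exact h0
    · exact h i hi' hi
  have e := koszul_relation (covers n Y) (resP n Y) (fun _ hZ => resP_of_isZero hZ) (resP_biprod hY) M hP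
    fun j hj => by
      rcases Nat.eq_zero_or_pos j with rfl | hj'
      · exact resP_of_isZero (CMReg.isZero_cyc_zero (covers n Y) M)
      · exact hcyc (n + 1 - j) j (by omega) hj'
  rw [Finset.sum_range_succ', add_comm] at e
  rw [pow_zero, Nat.choose_zero_right, Nat.cast_one, mul_one, one_smul] at e
  refine (eq_neg_of_add_eq_zero_left e).trans ?_
  rw [← Finset.sum_neg_distrib]
  refine Finset.sum_congr rfl fun i _ => ?_
  rw [← neg_smul]
  congr 1
  rw [coef, pow_succ]; ring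

/-- Large twists of resolved modules. -/
theorem exists_hasR_twF (hY : KRR.HasEnoughLocFree Y) {P : SGA6.Kvb (KRR.PY n Y) →+ SGA6.Kvb Y}
    (hP : ∀ F : (KRR.PY n Y).Modules, regP n Y F →
      P (KRR.cl _ F) = KRR.cl Y ((Scheme.Modules.pushforward (KRR.pr n Y)).obj F))
    (τ : ℤ → SGA6.Kvb (KRR.PY n Y) →+ SGA6.Kvb (KRR.PY n Y))
    (hτ : ∀ (d : ℤ) (L : (KRR.PY n Y).Modules), FlatMod.IsFinLocFree L →
      τ d (KRR.cl _ L) = KRR.cl _ (KRR.twF n Y d L)) :
    ∀ (k : ℕ) (A : (KRR.PY n Y).Modules) (c : SGA6.Kvb (KRR.PY n Y)),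
      R (KRR.vbP (KRR.PY n Y)) (cohP (KRR.PY n Y)) k A c →
      ∃ m₀ : ℕ, ∀ m : ℕ, m₀ ≤ m →
        HasR ((Scheme.Modules.pushforward (KRR.pr n Y)).obj (KRR.twF n Y (m : ℤ) A)) (P (τ m c)) := by
  haveI := isNoetherian_PY n Y
  have hreg : ∀ L : (KRR.PY n Y).Modules, FlatMod.IsFinLocFree L → ∃ m₀ : ℕ, ∀ m : ℕ, m₀ ≤ m →
      regP n Y (KRR.twF n Y (m : ℤ) L) := fun L hL => by
    obtain ⟨m₀, h⟩ := exists_regular (Euler.isCoh_of_isFinLocFree hL)
    exact ⟨m₀, fun m hm => ⟨RegSheaf.isFinLocFree_twF hL _, h m hm⟩⟩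
  intro k
  induction k with
  | zero =>
    intro A c hR
    obtain ⟨m₀, h⟩ := hreg A hR.1
    refine ⟨m₀, fun m hm => ?_⟩
    rw [hR.2, show KZero.clSub (KRR.vbP (KRR.PY n Y)) A = KRR.cl _ A from rfl, hτ _ _ hR.1, hP _ (h m hm)]
    exact HasR.of_vb (isFinLocFree_push_reg (h m hm))
  | succ k ih =>
    intro A c hR
    obtain ⟨hA, S, c', hS, rfl, hL, hK, rfl⟩ := hR
    obtain ⟨m₁, h₁⟩ := ih S.X₁ c' hK
    obtain ⟨m₂, h₂⟩ := hreg S.X₂ hL
    have hK' : Coh.IsCoh S.X₁ := K0Sub.isCoh_ker S hS (Euler.isCoh_of_isFinLocFree hL) hA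
    obtain ⟨m₃, h₃⟩ := exists_regular hK'
    refine ⟨max m₁ (max m₂ m₃), fun m hm => ?_⟩
    obtain ⟨k', hk'⟩ := h₁ m (le_trans (le_max_left _ _) hm)
    have hr := h₂ m (le_trans (le_trans (le_max_left _ _) (le_max_right _ _)) hm)
    have hr3 := h₃ m (le_trans (le_trans (le_max_right _ _) (le_max_right _ _)) hm)
    refine ⟨k' + 1, isCoh_push _ (RegSheaf.isCoh_twF hA _),
      (S.map ((DCoh.tensorBi (X := KRR.PY n Y)).obj (Twist.twistOver n Y (m : ℤ)))).map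
        (Scheme.Modules.pushforward (KRR.pr n Y)), P (τ m c'),
      shortExact_map_pushforward (KRR.pr n Y) (twF_map_shortExact _ hS) (van_zero_twist hr3 le_rfl),
      rfl, isFinLocFree_push_reg hr, hk', ?_⟩
    rw [map_sub, map_sub, show KZero.clSub (KRR.vbP (KRR.PY n Y)) S.X₂ = KRR.cl _ S.X₂ from rfl, hτ _ _ hL, hP _ hr]
    rfl

theorem tau_relation {τ : ℤ → SGA6.Kvb (KRR.PY n Y) →+ SGA6.Kvb (KRR.PY n Y)}
    (hτ : ∀ (d : ℤ) (L : (KRR.PY n Y).Modules), FlatMod.IsFinLocFree L →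
      τ d (KRR.cl _ L) = KRR.cl _ (KRR.twF n Y d L)) (m : ℕ) (c : SGA6.Kvb (KRR.PY n Y)) :
    τ m c = ∑ i ∈ Finset.range (n + 1), coef n i • τ ((m + (i + 1) : ℕ) : ℤ) c := by
  haveI := isNoetherian_PY n Y
  have h : τ (m : ℤ) = ∑ i ∈ Finset.range (n + 1), coef n i • τ ((m + (i + 1) : ℕ) : ℤ) :=
    K0Sub.hom_ext (P := KRR.vbP (KRR.PY n Y)) fun L hL => by
      show τ (m : ℤ) (KRR.cl _ L) = (∑ i ∈ Finset.range (n + 1), coef n i • τ ((m + (i + 1) : ℕ) : ℤ)) (KRR.cl _ L)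
      rw [AddMonoidHom.finsetSum_apply, hτ _ _ hL, vb_relation (RegSheaf.isFinLocFree_twF hL (m : ℤ))]
      refine Finset.sum_congr rfl fun i _ => ?_
      rw [AddMonoidHom.smul_apply, hτ _ _ hL]
      refine congrArg (coef n i • ·) ?_
      obtain ⟨e⟩ := nonempty_twF_twF (n := n) (T := Y) (a := ((i + 1 : ℕ) : ℤ)) (b := (m : ℤ))
        (c := ((m + (i + 1) : ℕ) : ℤ)) (by push_cast; ring) L
      exact K0Sub.clSub_eq_of_iso (P := KRR.vbP (KRR.PY n Y)) e (RegSheaf.isFinLocFree_twF (RegSheaf.isFinLocFree_twF hL _) _)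
        (RegSheaf.isFinLocFree_twF hL _) fun Z hZ => DCoh.isFinLocFree_of_isZero hZ
  rw [h, AddMonoidHom.finsetSum_apply]
  rfl

/-- If all nonnegative twists of a resolved module are acyclic, the push-forward on `K` is the class of
the direct image. -/
theorem hasR_push (hY : KRR.HasEnoughLocFree Y) {P : SGA6.Kvb (KRR.PY n Y) →+ SGA6.Kvb Y}
    (hP : ∀ F : (KRR.PY n Y).Modules, regP n Y F →
      P (KRR.cl _ F) = KRR.cl Y ((Scheme.Modules.pushforward (KRR.pr n Y)).obj F))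
    {A : (KRR.PY n Y).Modules} {c : SGA6.Kvb (KRR.PY n Y)} (hA : HasR A c)
    (hacy : ∀ t : ℕ, Acy (KRR.pr n Y) (KRR.twF n Y (t : ℤ) A)) :
    HasR ((Scheme.Modules.pushforward (KRR.pr n Y)).obj A) (P c) := by
  haveI := isNoetherian_PY n Y
  choose τ hτ using fun d : ℤ => exists_tau (n := n) (Y := Y) d
  obtain ⟨k, hk⟩ := hA
  have hAc : Coh.IsCoh A := by
    cases k with
    | zero => exact Euler.isCoh_of_isFinLocFree hk.1
    | succ k => exact hk.1
  obtain ⟨m₀, hm₀⟩ := exists_hasR_twF hY hP τ hτ k A c hk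
  obtain ⟨V, hV⟩ := exists_val (n := n) hY
  have hvan : ∀ (m s q : ℕ), 0 < q → Van (KRR.pr n Y) ((twPow (cT n Y) s).obj (KRR.twF n Y (m : ℤ) A)) q :=
    fun m s q hq => by
      obtain ⟨e⟩ := nonempty_twPow_twF s (m : ℤ) ((m + s : ℕ) : ℤ) A (by push_cast; ring)
      exact van_of_iso _ e.symm (van_of_acy (hacy (m + s)) hq)
  have key : ∀ d m : ℕ, m₀ ≤ m + d →
      HasR ((Scheme.Modules.pushforward (KRR.pr n Y)).obj (KRR.twF n Y (m : ℤ) A)) (P (τ m c)) := by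
    intro d
    induction d with
    | zero => exact fun m hm => hm₀ m (by omega)
    | succ d ih =>
      intro m hm
      have hs : ∀ s, 1 ≤ s → resP n Y ((twPow (cT n Y) s).obj (KRR.twF n Y (m : ℤ) A)) ∧
          HasR ((Scheme.Modules.pushforward (KRR.pr n Y)).obj ((twPow (cT n Y) s).obj (KRR.twF n Y (m : ℤ) A)))
            (P (τ ((m + s : ℕ) : ℤ) c)) := fun s hs => by
        obtain ⟨e⟩ := nonempty_twPow_twF s (m : ℤ) ((m + s : ℕ) : ℤ) A (by push_cast; ring)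
        have h1 := (ih (m + s) (by omega)).of_iso hY ((Scheme.Modules.pushforward (KRR.pr n Y)).mapIso e.symm)
        exact ⟨⟨QCoh.isCoh_of_iso e.symm (RegSheaf.isCoh_twF hAc _), hvan m s, _, h1⟩, h1⟩
      obtain ⟨h0, hrel⟩ := resP_and_relation hY (RegSheaf.isCoh_twF hAc (m : ℤ)) (hvan m)
        fun s hs1 _ => (hs s hs1).1
      have h1 := hV _ h0
      rw [hrel, map_sum] at h1
      convert h1 using 1
      rw [tau_relation hτ m c, map_sum]
      refine Finset.sum_congr rfl fun i _ => ?_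
      rw [map_zsmul, map_zsmul]
      exact congrArg (coef n i • ·) (HasR.unique hY (hs (i + 1) (by omega)).2 (hV _ (hs (i + 1) (by omega)).1))
  have h := key m₀ 0 (by omega)
  have hτ0 : τ ((0 : ℕ) : ℤ) = AddMonoidHom.id _ :=
    K0Sub.hom_ext (P := KRR.vbP (KRR.PY n Y)) fun L hL => by
      show τ ((0 : ℕ) : ℤ) (KRR.cl _ L) = KRR.cl _ L
      rw [hτ _ _ hL]
      exact K0Sub.clSub_eq_of_iso (P := KRR.vbP (KRR.PY n Y)) (nonempty_twF_zero L).some
        (RegSheaf.isFinLocFree_twF hL _) hL fun Z hZ => DCoh.isFinLocFree_of_isZero hZ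
  rw [hτ0] at h
  exact h.of_iso hY ((Scheme.Modules.pushforward (KRR.pr n Y)).mapIso (nonempty_twF_zero A).some)

variable {KX KP KY : Type v} [CommRing KX] [CommRing KP] [CommRing KY]
  {φX : SGA6.Kvb X →+ KX} {φP : SGA6.Kvb (KRR.PY n Y) →+ KP} {φY : SGA6.Kvb Y →+ KY}

omit [AlgebraicGeometry.IsNoetherian Y] in
theorem pushCl_cl [IsNoetherian X] [IsNoetherian Z] (hZ : KRR.HasEnoughLocFree Z) {KZ : Type v} [CommRing KZ]
    {φZ : SGA6.Kvb Z →+ KZ} (i : X ⟶ Z) [IsClosedImmersion i]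
    {a : KX →+ KZ} (ha : KRR.IsPushCl i φX φZ a) {F : X.Modules} (hF : FlatMod.IsFinLocFree F)
    {c : SGA6.Kvb Z} (hc : HasR ((Scheme.Modules.pushforward i).obj F) c) : a (φX (KRR.cl X F)) = φZ c := by
  obtain ⟨k, hk⟩ := hc
  obtain ⟨L, π, hL⟩ := K0Sub.exists_isLFRes_of_R hZ k _ c hk
  rw [ha F hF k L π hL, R.unique (resHyp_vb hZ) hk
    (K0Sub.R_of_isLFRes k _ L π (K0Sub.isCoh_push i (Euler.isCoh_of_isFinLocFree hF)) hL), map_sum]
  exact Finset.sum_congr rfl fun j _ => (map_zsmul φZ _ _).symm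

/-- The push-forward along a closed immersion of a resolved module. -/
theorem exists_hasR_pushCl [IsNoetherian X] (hPe : KRR.HasEnoughLocFree (KRR.PY n Y))
    (i : X ⟶ KRR.PY n Y) (hi : Mor2.IsRegularClosedImmersion i)
    {a : KX →+ KP} (ha : KRR.IsPushCl i φX φP a) {M : X.Modules} {e : SGA6.Kvb X} (hM : HasR M e) :
    ∃ c, HasR ((Scheme.Modules.pushforward i).obj M) c ∧ a (φX e) = φP c := by
  haveI := hi.1
  haveI := isNoetherian_PY n Y
  obtain ⟨ψ, hψ⟩ := K0Sub.exists_pushClass hPe hi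
  obtain ⟨k, hk⟩ := hM
  refine ⟨ψ e, K0Sub.exists_R_push hPe hi hψ k M e hk, ?_⟩
  have : a.comp φX = φP.comp ψ := K0Sub.hom_ext (P := KRR.vbP X) fun F hF => by
    obtain ⟨n', hn'⟩ := K0Sub.exists_pd_push hi hF
    obtain ⟨c, hc⟩ := K0Sub.exists_R_of_pd hPe n' _ (K0Sub.isCoh_push i (Euler.isCoh_of_isFinLocFree hF)) hn'
    show a (φX (KRR.cl X F)) = φP (ψ (KRR.cl X F))
    rw [pushCl_cl hPe i ha hF ⟨n', hc⟩, hψ F hF n' c hc]
  exact DFunLike.congr_fun this e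

theorem pushPr_eq {b : KP →+ KY} (hb : KRR.IsPushPr n Y φP φY b) {P : SGA6.Kvb (KRR.PY n Y) →+ SGA6.Kvb Y}
    (hP : ∀ F : (KRR.PY n Y).Modules, regP n Y F →
      P (KRR.cl _ F) = KRR.cl Y ((Scheme.Modules.pushforward (KRR.pr n Y)).obj F))
    (c : SGA6.Kvb (KRR.PY n Y)) : b (φP c) = φY (P c) := by
  have : b.comp φP = φY.comp P := hom_ext_reg fun F hF => by
    show b (φP (KRR.cl _ F)) = φY (P (KRR.cl _ F))
    rw [hb F hF.1 hF.2, hP F hF]
  exact DFunLike.congr_fun this c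

/-- The push-forward of a module with acyclic twists along `i` followed by the projection. -/
theorem exists_hasR_comp [IsNoetherian X] (hY : KRR.HasEnoughLocFree Y) (hPe : KRR.HasEnoughLocFree (KRR.PY n Y))
    (i : X ⟶ KRR.PY n Y) (hi : Mor2.IsRegularClosedImmersion i)
    {a : KX →+ KP} (ha : KRR.IsPushCl i φX φP a) {b : KP →+ KY} (hb : KRR.IsPushPr n Y φP φY b)
    {M : X.Modules} {e : SGA6.Kvb X} (hM : HasR M e)
    (hacy : ∀ t : ℕ, Acy (i ≫ KRR.pr n Y) (twu i (t : ℤ) M)) :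
    ∃ d, HasR ((Scheme.Modules.pushforward (i ≫ KRR.pr n Y)).obj M) d ∧ b (a (φX e)) = φY d := by
  haveI := hi.1
  haveI := isNoetherian_PY n Y
  obtain ⟨c, hc, hac⟩ := exists_hasR_pushCl hPe i hi ha hM
  obtain ⟨P, hP⟩ := exists_pushK (n := n) (Y := Y)
  have hMc : Coh.IsCoh M := by
    obtain ⟨k, hk⟩ := hM
    cases k with
    | zero => exact Euler.isCoh_of_isFinLocFree hk.1
    | succ k => exact hk.1
  have h := hasR_push hY hP hc fun t => by
    haveI := (isCoh_twu i (t : ℤ) hMc).1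
    exact (acy_twF_push_iff i _ M).2 (hacy t)
  exact ⟨P c, h.of_iso hY ((Scheme.Modules.pushforwardComp i (KRR.pr n Y)).app M),
    by rw [hac, pushPr_eq hb hP]⟩

end GrothLib.PushKR17
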