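import Groth.Agent.S1676
import Groth.Agent.S2886
import Groth.Agent.Lib.RegSheaf.BaseChange
import Groth.Agent.Lib.RegSheaf.Good

/-!
# Sections and base change of projective spaces along regular immersions
-/

set_option autoImplicit false
set_option linter.style.haveILetI false
universe u

open CategoryTheory CategoryTheory.Limits AlgebraicGeometry

noncomputable section

namespace GrothLib.PushKR17

theorem isRegular_comp_iso {A B C : Scheme.{u}} (e : A ⟶ B) [IsIso e] {i : B ⟶ C}
    (hi : Mor2.IsRegularClosedImmersion i) : Mor2.IsRegularClosedImmersion (e ≫ i) := by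
  haveI := hi.1
  refine ⟨inferInstance, fun z => ?_⟩
  obtain ⟨U, hU, hz, rs, hrs, hker⟩ := hi.2 (e z)
  exact ⟨U, hU, (by rw [Scheme.Hom.comp_apply]; exact hz), rs, hrs, by rw [Scheme.Hom.ker_comp_of_isIso]; exact hker⟩

theorem isRegular_section {n : ℕ} {Y : Scheme.{u}} (s : Y ⟶ KRR.PY n Y) (hs : s ≫ KRR.pr n Y = 𝟙 Y) :
    Mor2.IsRegularClosedImmersion s := by
  haveI : IsClosedImmersion (s ≫ KRR.pr n Y) := by rw [hs]; infer_instance
  haveI : IsClosedImmersion s := IsClosedImmersion.of_comp s (KRR.pr n Y)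
  exact Groth.Agent.S1676.result (KRR.pr n Y) s hs

theorem isRegular_projSpaceMap (n : ℕ) {X Y : Scheme.{u}} {i : X ⟶ Y} (hi : Mor2.IsRegularClosedImmersion i) :
    Mor2.IsRegularClosedImmersion (KRR.projSpaceMap n i) := by
  haveI := RegSheaf.smooth_pr (n := n) (Y := Y)
  have h := Groth.Agent.S2886.result i (KRR.pr n Y) hi
  have hsq := (RegSheaf.isPullback_projSpaceMap (n := n) i).flip
  rw [← hsq.isoPullback_hom_snd]
  exact isRegular_comp_iso _ h

end GrothLib.PushKR17
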