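import Groth.Agent.Lib.PushKR17.Local
import Groth.Agent.Lib.PushKR17.Push
import Groth.Agent.Lib.AffBC.Basic
import Groth.Agent.Lib.FormalExist7.OpenPush

/-!
# Base change of resolved modules
-/

set_option autoImplicit false
set_option linter.style.haveILetI false
universe u

open CategoryTheory CategoryTheory.Limits AlgebraicGeometry

noncomputable section

namespace GrothLib.PushKR17

open K0Sub (R cohP)

variable {X Y P M : Scheme.{u}}

theorem torInd_stalk_vb [IsNoetherian M] (φ : Y ⟶ M) {E : M.Modules} (hE : FlatMod.IsFinLocFree E) (y : Y) :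
    letI := (φ.stalkMap y).hom.toAlgebra
    TorInd (M.presheaf.stalk (φ y)) (Y.presheaf.stalk y) ((OX.stalk (φ y)).obj E) := by
  letI := (φ.stalkMap y).hom.toAlgebra
  haveI := (Euler.isCoh_of_isFinLocFree hE).1
  haveI : Module.Free (M.presheaf.stalk (φ y)) ((OX.stalk (φ y)).obj E) :=
    ((LocFree8.isFinLocFree_iff_fp_free (M := E)).1 hE).2 (φ y)
  exact torInd_projective _

/-- A resolution of a Tor independent module pulls back to a resolution. -/
theorem R_pullback [IsNoetherian M] (φ : Y ⟶ M) {θ : SGA6.Kvb M →+ SGA6.Kvb Y}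
    (hθ : ∀ E : M.Modules, FlatMod.IsFinLocFree E → θ (KRR.cl M E) = KRR.cl Y ((Scheme.Modules.pullback φ).obj E)) :
    ∀ (n : ℕ) (N : M.Modules) (c : SGA6.Kvb M), R (KRR.vbP M) (cohP M) n N c →
      (∀ y : Y, letI := (φ.stalkMap y).hom.toAlgebra
        TorInd (M.presheaf.stalk (φ y)) (Y.presheaf.stalk y) ((OX.stalk (φ y)).obj N)) →
      R (KRR.vbP Y) (cohP Y) n ((Scheme.Modules.pullback φ).obj N) (θ c)
  | 0, N, c, hR, _ => ⟨OX.isFinLocFree_pullback φ hR.1, by rw [hR.2]; exact hθ N hR.1⟩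
  | n + 1, N, c, hR, hT => by
    obtain ⟨hN, S, c', hS, rfl, hE, hR', rfl⟩ := hR
    have h₁ : ∀ y : Y, letI := (φ.stalkMap y).hom.toAlgebra
        TorInd (M.presheaf.stalk (φ y)) (Y.presheaf.stalk y) ((OX.stalk (φ y)).obj S.X₁) := fun y => by
      letI := (φ.stalkMap y).hom.toAlgebra
      exact (torInd_X₁ (hS.map_of_exact (OX.stalk (φ y))) (torInd_stalk_vb φ hE y) (hT y)).1
    haveI : (Scheme.Modules.pullback φ).Additive :=
      (Scheme.Modules.pullbackPushforwardAdjunction φ).left_adjoint_additive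
    refine ⟨FormalExist7.isCoh_pullbackMod φ hN, S.map (Scheme.Modules.pullback φ), θ c',
      shortExact_pullback φ hS (torInd_stalk_vb φ hE) hT, rfl, OX.isFinLocFree_pullback φ hE,
      R_pullback φ hθ n _ c' hR' h₁, ?_⟩
    rw [map_sub]
    exact congrArg (· - θ c') (hθ _ hE)

/-- The pull-back of the class of the direct image of a bundle. -/
theorem hasR_push_of_isPullback {F : P ⟶ M} {φ : Y ⟶ M} {f : X ⟶ Y} {ψ : X ⟶ P} (hsq : IsPullback f ψ φ F)
    (hF : Mor2.IsRegularClosedImmersion F) (hf : Mor2.IsRegularClosedImmersion f) {d : ℕ}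
    (hcF : FlatMod.IsFinLocFreeOfRank d (Omega.conormal F)) (hcf : FlatMod.IsFinLocFreeOfRank d (Omega.conormal f))
    [IsNoetherian P] [IsNoetherian M] [IsNoetherian Y] (hY : KRR.HasEnoughLocFree Y)
    {θ : SGA6.Kvb M →+ SGA6.Kvb Y}
    (hθ : ∀ E : M.Modules, FlatMod.IsFinLocFree E → θ (KRR.cl M E) = KRR.cl Y ((Scheme.Modules.pullback φ).obj E))
    {E : P.Modules} (hE : FlatMod.IsFinLocFree E) {c : SGA6.Kvb M}
    (hc : HasR ((Scheme.Modules.pushforward F).obj E) c) :
    HasR ((Scheme.Modules.pushforward f).obj ((Scheme.Modules.pullback ψ).obj E)) (θ c) := by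
  obtain ⟨n, hn⟩ := hc
  haveI := hF.1
  haveI : E.IsQuasicoherent := (Euler.isCoh_of_isFinLocFree hE).1
  haveI := AffBC.isIso_bcMap hsq.flip E
  exact HasR.of_iso hY (asIso (AffBC.bcMap hsq.flip E))
    ⟨n, R_pullback φ hθ n _ c hn fun y => torInd_stalk_push hsq hF hf hcF hcf hE y⟩

end GrothLib.PushKR17
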