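import Groth.Agent.Lib.LDerLES.Basic
import Groth.Agent.S14422
import Groth.Agent.S2868
import Groth.Agent.S18935
import Groth.Agent.Lib.SeqKinds.Basic
import Groth.Agent.Lib.KoszulFwd
import Mathlib.RingTheory.Regular.RegularSequence
import Mathlib.CategoryTheory.Monoidal.Tor
import Groth.Prelude.Def_LCI2

/-!
# Tor independence along regular sequences
-/

set_option autoImplicit false
set_option linter.style.haveILetI false
universe u

open CategoryTheory CategoryTheory.Limits MonoidalCategory RingTheory.Sequence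
open scoped TensorProduct Pointwise

noncomputable section

namespace GrothLib.PushKR17

variable (A : Type u) [CommRing A] (B : Type u) [AddCommGroup B] [Module A B]

/-- No higher Tor against `B`. -/
def TorInd (N : Type u) [AddCommGroup N] [Module A N] : Prop :=
  ∀ i : ℕ, IsZero (((Tor (ModuleCat.{u} A) (i + 1)).obj (ModuleCat.of A B)).obj (ModuleCat.of A N))

variable {A B}

theorem torInd_congr {N N' : Type u} [AddCommGroup N] [Module A N] [AddCommGroup N'] [Module A N']
    (e : N ≃ₗ[A] N') (h : TorInd A B N) : TorInd A B N' := fun i =>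
  (h i).of_iso (((Tor (ModuleCat.{u} A) (i + 1)).obj (ModuleCat.of A B)).mapIso e.toModuleIso.symm)

theorem torInd_projective (N : Type u) [AddCommGroup N] [Module A N] [Module.Projective A N] : TorInd A B N := fun i => by
  haveI : CategoryTheory.Projective (ModuleCat.of A N) := inferInstance
  exact Functor.isZero_leftDerived_obj_projective_succ (MonoidalCategory.tensorLeft (ModuleCat.of A B)) i _

theorem torInd_X₂ {S : ShortComplex (ModuleCat.{u} A)} (hS : S.ShortExact) (h₁ : TorInd A B S.X₁)
    (h₃ : TorInd A B S.X₃) : TorInd A B S.X₂ := fun i => by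
  obtain ⟨⟨w, hw⟩, -, -⟩ := Groth.Agent.S14422.result A (ModuleCat.of A B) S hS (i + 1)
  exact hw.isZero_of_both_zeros ((h₁ i).eq_of_src _ _) ((h₃ i).eq_of_tgt _ _)

theorem tor_zero_map_injective_iff {M N : ModuleCat.{u} A} (f : M ⟶ N) :
    Mono (((Tor (ModuleCat.{u} A) 0).obj (ModuleCat.of A B)).map f) ↔ Function.Injective (f.hom.lTensor B) := by
  let e := (MonoidalCategory.tensorLeft (ModuleCat.of A B)).leftDerivedZeroIsoSelf
  refine Iff.trans ⟨fun h => ?_, fun h => ?_⟩ (ModuleCat.mono_iff_injective ((MonoidalCategory.tensorLeft (ModuleCat.of A B)).map f))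
  · haveI : Mono (((MonoidalCategory.tensorLeft (ModuleCat.of A B)).leftDerived 0).map f) := h
    rw [← NatIso.naturality_1 e f]; exact inferInstance
  · show Mono (((MonoidalCategory.tensorLeft (ModuleCat.of A B)).leftDerived 0).map f)
    rw [← NatIso.naturality_2 e f]; haveI := h; exact inferInstance

theorem torInd_X₁ {S : ShortComplex (ModuleCat.{u} A)} (hS : S.ShortExact) (h₂ : TorInd A B S.X₂)
    (h₃ : TorInd A B S.X₃) : TorInd A B S.X₁ ∧ Function.Injective (S.f.hom.lTensor B) := by
  refine ⟨fun i => ?_, ?_⟩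
  · obtain ⟨-, -, δ, w₁, w₂, -, hw⟩ := Groth.Agent.S14422.result A (ModuleCat.of A B) S hS (i + 1)
    exact hw.isZero_of_both_zeros ((h₃ (i + 1)).eq_of_src _ _) ((h₂ i).eq_of_tgt _ _)
  · obtain ⟨-, -, δ, w₁, w₂, -, hw⟩ := Groth.Agent.S14422.result A (ModuleCat.of A B) S hS 0
    exact (tor_zero_map_injective_iff S.f).1 (hw.mono_g ((h₃ 0).eq_of_src _ _))

theorem torInd_X₃ {S : ShortComplex (ModuleCat.{u} A)} (hS : S.ShortExact) (h₁ : TorInd A B S.X₁)
    (h₂ : TorInd A B S.X₂) (hinj : Function.Injective (S.f.hom.lTensor B)) : TorInd A B S.X₃ := fun i => by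
  obtain ⟨-, -, δ, w₁, w₂, hw, -⟩ := Groth.Agent.S14422.result A (ModuleCat.of A B) S hS i
  refine hw.isZero_of_both_zeros ((h₂ i).eq_of_src _ _) ?_
  cases i with
  | zero =>
    haveI := (tor_zero_map_injective_iff S.f).2 hinj
    exact (cancel_mono _).1 (w₂.trans zero_comp.symm)
  | succ i => exact (h₁ i).eq_of_tgt _ _

theorem torInd_pi {M : Type u} [AddCommGroup M] [Module A M] (h : TorInd A B M) :
    ∀ r : ℕ, TorInd A B (Fin r → M)
  | 0 => torInd_projective _
  | r + 1 => by
    refine torInd_congr (Fin.consLinearEquiv A fun _ : Fin (r + 1) => M) ?_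
    let S : ShortComplex (ModuleCat.{u} A) :=
      ShortComplex.mk (ModuleCat.ofHom (LinearMap.inl A M (Fin r → M))) (ModuleCat.ofHom (LinearMap.snd A M (Fin r → M)))
        (ModuleCat.hom_ext (LinearMap.ext fun m => rfl))
    have hS : S.ShortExact :=
      { exact := (ShortComplex.moduleCat_exact_iff _).2 fun v hv => ⟨v.1, Prod.ext rfl hv.symm⟩
        mono_f := (ModuleCat.mono_iff_injective _).2 LinearMap.inl_injective
        epi_g := (ModuleCat.epi_iff_surjective _).2 LinearMap.snd_surjective }
    exact torInd_X₂ (S := S) hS h (torInd_pi h r)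

theorem torInd_quot_seq : ∀ (rs : List A) {M : Type u} [AddCommGroup M] [Module A M],
    IsWeaklyRegular M rs → IsWeaklyRegular (B ⊗[A] M) rs → TorInd A B M →
      TorInd A B (M ⧸ Ideal.ofList rs • (⊤ : Submodule A M))
  | [], M, _, _, _, _, h => torInd_congr (Submodule.quotEquivOfEqBot _ (by simp)).symm h
  | x :: rs, M, _, _, hr, hB, h => by
    rw [isWeaklyRegular_cons_iff] at hr hB
    let S : ShortComplex (ModuleCat.{u} A) :=
      ShortComplex.mk (ModuleCat.ofHom (LinearMap.lsmul A M x)) (ModuleCat.ofHom (x • (⊤ : Submodule A M)).mkQ)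
        (ModuleCat.hom_ext (LinearMap.ext fun m => (Submodule.Quotient.mk_eq_zero _).2
          (Submodule.smul_mem_pointwise_smul m x ⊤ trivial)))
    have hS : S.ShortExact :=
      { exact := (ShortComplex.moduleCat_exact_iff _).2 fun v hv => by
          obtain ⟨w, -, hw⟩ := (Submodule.mem_smul_pointwise_iff_exists _ x ⊤).1 ((Submodule.Quotient.mk_eq_zero _).1 hv)
          exact ⟨w, hw⟩
        mono_f := (ModuleCat.mono_iff_injective _).2 hr.1
        epi_g := (ModuleCat.epi_iff_surjective _).2 (Submodule.mkQ_surjective _) }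
    have hinj : Function.Injective (S.f.hom.lTensor B) := by
      have hf : S.f.hom.lTensor B = LinearMap.lsmul A (B ⊗[A] M) x := TensorProduct.ext' fun b m => by
        show b ⊗ₜ[A] (x • m) = x • (b ⊗ₜ[A] m)
        rw [TensorProduct.tmul_smul]
      rw [hf]
      exact hB.1
    have h1 : TorInd A B (QuotSMulTop x M) := torInd_X₃ (S := S) hS h h hinj
    refine torInd_congr (Submodule.quotOfListConsSMulTopEquivQuotSMulTopInner M x rs).symm
      (torInd_quot_seq rs hr.2 ?_ h1)
    exact ((QuotSMulTop.tensorQuotSMulTopEquivQuotSMulTop x (M := B) (M' := M)).isWeaklyRegular_congr rs).2 hB.2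

omit [AddCommGroup B] [Module A B] in
/-- The quotient by a sequence which stays regular. -/
theorem torInd_quotient {C : Type u} [CommRing C] [Algebra A C] (rs : List A) (hA : IsWeaklyRegular A rs)
    (hC : IsWeaklyRegular C (rs.map (algebraMap A C))) : TorInd A C (A ⧸ Ideal.ofList rs) := by
  have h : IsWeaklyRegular (C ⊗[A] A) rs :=
    ((TensorProduct.rid A C).isWeaklyRegular_congr rs).2 ((isWeaklyRegular_map_algebraMap_iff C C rs).1 hC)
  refine torInd_congr (Submodule.quotEquivOfEq _ _ ?_) (torInd_quot_seq (M := A) rs hA h (torInd_projective A))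
  rw [smul_eq_mul, Ideal.mul_top]

/-- Generators of minimal length of the ideal of a regular sequence form a regular sequence. -/
theorem isWeaklyRegular_of_span_eq {R : Type u} [CommRing R] [IsLocalRing R] [IsNoetherianRing R]
    (rs ss : List R) (hss : IsWeaklyRegular R ss) (hne : Ideal.ofList ss ≠ ⊤)
    (hI : Ideal.ofList rs = Ideal.ofList ss) (hlen : rs.length = ss.length) : IsWeaklyRegular R rs := by
  have hk : LCI.IsKoszulRegularSeq R rs :=
    (Groth.Agent.S18935.result hne ss (GrothLib.KoszulFwd.isKoszulRegularSeq_of_isWeaklyRegular _ hss) rfl rs hI).2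
      fun h hh => hlen ▸ (Groth.Agent.S18935.result hne ss
        (GrothLib.KoszulFwd.isKoszulRegularSeq_of_isWeaklyRegular _ hss) rfl ss rfl).1
          (GrothLib.KoszulFwd.isKoszulRegularSeq_of_isWeaklyRegular _ hss) h hh
  have h1 := GrothLib.SeqKinds.isH1Regular_of_isKoszulRegularSeq rs hk
  have h2 := Groth.Agent.S2868.result (A := R) rs.get (fun i => ?_) R fun m hm => ?_
  · rwa [List.ofFn_get] at h2
  · have hm : rs.get i ∈ IsLocalRing.maximalIdeal R :=
      IsLocalRing.le_maximalIdeal (hI ▸ hne) (Ideal.subset_span (List.get_mem rs i))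
    rwa [IsLocalRing.jacobson_eq_maximalIdeal _ bot_ne_top]
  · have hm' := h1 m (by rw [← hm]; exact Finset.sum_congr rfl fun k _ => mul_comm _ _)
    refine Submodule.span_mono ?_ hm'
    rintro v ⟨i, j, rfl⟩
    refine ⟨i, j, 1, ?_⟩
    rw [← Pi.single_smul', ← Pi.single_smul', smul_eq_mul, smul_eq_mul, mul_one, mul_one]

end GrothLib.PushKR17
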