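import Groth.Agent.Lib.PushKR17.Acy
import Groth.Agent.Lib.RegSheaf.BaseChange
import Groth.Agent.Lib.OX.TensorAssoc
import Groth.Agent.Lib.OX.LocFreeTensor
import Groth.Agent.Lib.ModelK.Basic
import Groth.Agent.Lib.RegSheaf.Acyclic
import Groth.Agent.Lib.K0Sub.ProjPush

/-!
# Twists by pullbacks of `O(d)`
-/

set_option autoImplicit false
set_option backward.isDefEq.respectTransparency false
set_option linter.style.haveILetI false
universe v u

open CategoryTheory CategoryTheory.Limits AlgebraicGeometry TopologicalSpace Opposite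

noncomputable section

namespace GrothLib.PushKR17

open RegSheaf

variable {X X' Y Z : Scheme.{u}} {n m : ℕ}

/-- Tensor product in the bifunctor form. -/
abbrev tn (L M : X.Modules) : X.Modules := ((DCoh.tensorBi (X := X)).obj L).obj M

/-- Isomorphisms of both factors. -/
abbrev tnIso {L L' M M' : X.Modules} (a : L ≅ L') (b : M ≅ M') : tn L M ≅ tn L' M' :=
  ((DCoh.tensorBi (X := X)).mapIso a).app M ≪≫ ((DCoh.tensorBi (X := X)).obj L').mapIso b

theorem nonempty_tn_comm (L M : X.Modules) : Nonempty (tn L M ≅ tn M L) :=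
  ⟨GrTilde.tensorModComm L M⟩

theorem nonempty_tn_leftComm (L M N : X.Modules) : Nonempty (tn L (tn M N) ≅ tn M (tn L N)) := by
  obtain ⟨e⟩ := nonempty_tn_comm L M
  exact ⟨(OX.tensorAssoc L M N).symm ≪≫ tnIso e (Iso.refl N) ≪≫ OX.tensorAssoc M L N⟩

/-- The line `u^* O(d)`. -/
abbrev lineP (u : X ⟶ KRR.PY n Y) (d : ℤ) : X.Modules :=
  (Scheme.Modules.pullback u).obj (Twist.twistOver n Y d)

/-- `M ↦ u^* O(d) ⊗ M`. -/
abbrev twu (u : X ⟶ KRR.PY n Y) (d : ℤ) (M : X.Modules) : X.Modules := tn (lineP u d) M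

theorem isFinLocFree_lineP (u : X ⟶ KRR.PY n Y) (d : ℤ) : FlatMod.IsFinLocFree (lineP u d) :=
  OX.isFinLocFree_pullback u (isFinLocFree_twistOver d)

theorem isFinLocFree_twu (u : X ⟶ KRR.PY n Y) (d : ℤ) {M : X.Modules} (hM : FlatMod.IsFinLocFree M) :
    FlatMod.IsFinLocFree (twu u d M) :=
  OX.isFinLocFree_tensor (isFinLocFree_lineP u d) hM

theorem isCoh_twu [IsLocallyNoetherian X] (u : X ⟶ KRR.PY n Y) (d : ℤ) {M : X.Modules} (hM : Coh.IsCoh M) :
    Coh.IsCoh (twu u d M) := by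
  obtain ⟨e⟩ := nonempty_tn_comm M (lineP u d)
  exact QCoh.isCoh_of_iso e (Euler.isCoh_tF hM (isFinLocFree_lineP u d))

theorem nonempty_lineP_add (u : X ⟶ KRR.PY n Y) {a b c : ℤ} (h : a + b = c) :
    Nonempty (tn (lineP u a) (lineP u b) ≅ lineP u c) := by
  obtain ⟨e⟩ := nonempty_twist_add (n := n) (T := Y) h
  exact ⟨(OX.pullTensorIso u _ _).symm ≪≫ (Scheme.Modules.pullback u).mapIso e⟩

theorem nonempty_twu_twu (u : X ⟶ KRR.PY n Y) {a b c : ℤ} (h : a + b = c) (M : X.Modules) :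
    Nonempty (twu u a (twu u b M) ≅ twu u c M) := by
  obtain ⟨e⟩ := nonempty_lineP_add u h
  exact ⟨(OX.tensorAssoc _ _ _).symm ≪≫ tnIso e (Iso.refl M)⟩

theorem nonempty_twu_comm (u : X ⟶ KRR.PY n Y) (v : X ⟶ KRR.PY m Z) (a b : ℤ) (M : X.Modules) :
    Nonempty (twu u a (twu v b M) ≅ twu v b (twu u a M)) :=
  nonempty_tn_leftComm _ _ _

theorem nonempty_twu_zero (u : X ⟶ KRR.PY n Y) (M : X.Modules) : Nonempty (twu u 0 M ≅ M) := by
  obtain ⟨e⟩ := GrTilde.nonempty_structureModule_iso_twist_zero (CohB1.polyGrading n (ULift.{u} ℤ))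
  exact ⟨tnIso ((Scheme.Modules.pullback u).mapIso
    ((Scheme.Modules.pullback _).mapIso e.symm ≪≫ OX.pullUnitIso _) ≪≫ OX.pullUnitIso u) (Iso.refl M) ≪≫
      OX.tensorUnitLeftIso M⟩

/-- The projection formula along a closed immersion into `P^n`. -/
theorem nonempty_twF_push (i : X ⟶ KRR.PY n Y) (d : ℤ) (M : X.Modules) :
    Nonempty (KRR.twF n Y d ((Scheme.Modules.pushforward i).obj M) ≅
      (Scheme.Modules.pushforward i).obj (twu i d M)) :=
  ⟨@asIso _ _ _ _ (ProjFormula.projHom i (Twist.twistOver n Y d) M)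
    (ProjFormula.isIso_projHom i (isFinLocFree_twistOver d) M)⟩

/-- The projection formula for twists pulled back along `f`. -/
theorem nonempty_push_twu (f : X ⟶ Y) (j : Y ⟶ KRR.PY m Z) (d : ℤ) (M : X.Modules) :
    Nonempty (twu j d ((Scheme.Modules.pushforward f).obj M) ≅
      (Scheme.Modules.pushforward f).obj (twu (f ≫ j) d M)) :=
  ⟨@asIso _ _ _ _ (ProjFormula.projHom f (lineP j d) M)
      (ProjFormula.isIso_projHom f (isFinLocFree_lineP j d) M) ≪≫
    (Scheme.Modules.pushforward f).mapIso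
      (tnIso ((Scheme.Modules.pullbackComp f j).app _) (Iso.refl M))⟩

theorem acy_twu_pull {f : X ⟶ Y} [QuasiCompact f] [QuasiSeparated f] [IsLocallyNoetherian X]
    (j : Y ⟶ KRR.PY m Z) (d : ℤ) {M : X.Modules} (hM : Coh.IsCoh M) (h : Acy f M) :
    Acy f (twu (f ≫ j) d M) := by
  haveI := (isCoh_twu (f ≫ j) d hM).1
  refine acy_of_van f fun q hq => ?_
  exact van_of_iso f (tnIso ((Scheme.Modules.pullbackComp f j).app _) (Iso.refl M))
    (van_pullback_tensor f (isFinLocFree_lineP j d) (van_of_acy h hq))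

/-- Acyclicity of twists on `X` and on `P^n`. -/
theorem acy_twF_push_iff (i : X ⟶ KRR.PY n Y) [IsAffineHom i] (d : ℤ) (M : X.Modules)
    [(twu i d M).IsQuasicoherent] :
    Acy (KRR.pr n Y) (KRR.twF n Y d ((Scheme.Modules.pushforward i).obj M)) ↔
      Acy (i ≫ KRR.pr n Y) (twu i d M) := by
  obtain ⟨e⟩ := nonempty_twF_push i d M
  rw [acy_comp_iff i _ (acy_affine i _)]
  exact ⟨acy_of_iso e, acy_of_iso e.symm⟩

/-- Large twists are acyclic. -/
theorem exists_acy_twu [IsNoetherian Y] (i : X ⟶ KRR.PY n Y) [IsClosedImmersion i] {M : X.Modules}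
    (hM : Coh.IsCoh M) : ∃ a₀ : ℕ, ∀ a : ℕ, a₀ ≤ a → Acy (i ≫ KRR.pr n Y) (twu i (a : ℤ) M) := by
  haveI := isNoetherian_PY n Y
  haveI := isNoetherian_of_closedImmersion i
  obtain ⟨a₀, h⟩ := exists_acy_twF (K0Sub.isCoh_push i hM)
  refine ⟨a₀, fun a ha => ?_⟩
  haveI := (isCoh_twu i (a : ℤ) hM).1
  exact (acy_twF_push_iff i _ M).1 (h a ha)

/-- Acyclicity of finitely many negative twists gives acyclicity of all nonnegative ones. -/
theorem acy_twu_of_neg [IsNoetherian Y] (i : X ⟶ KRR.PY n Y) [IsClosedImmersion i] {M : X.Modules}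
    (hM : Coh.IsCoh M) (h : ∀ q : ℕ, 1 ≤ q → q ≤ n → Acy (i ≫ KRR.pr n Y) (twu i (-(q : ℤ)) M)) (t : ℕ) :
    Acy (i ≫ KRR.pr n Y) (twu i (t : ℤ) M) := by
  haveI := isNoetherian_PY n Y
  haveI := isNoetherian_of_closedImmersion i
  have hc := K0Sub.isCoh_push i hM
  have hreg : KRR.IsRegSheaf n Y ((Scheme.Modules.pushforward i).obj M) := fun q hq => by
    by_cases hqn : n < q
    · haveI := (RegSheaf.isCoh_twF hc (-(q : ℤ))).1
      exact van_of_lt _ hqn
    · haveI := (isCoh_twu i (-(q : ℤ)) hM).1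
      exact van_of_acy ((acy_twF_push_iff i _ M).2 (h q hq (by omega))) hq
  haveI := (isCoh_twu i (t : ℤ) hM).1
  exact (acy_twF_push_iff i _ M).1 (acy_twF_of_reg hc hreg t)

/-- The relation between twists, as seen by an additive function. -/
theorem add_relation [IsLocallyNoetherian X] {G : Type*} [AddCommGroup G] (u : X ⟶ KRR.PY n Y)
    (D : SGA6.Kvb X →+ G) {E : X.Modules} (hE : FlatMod.IsFinLocFree E) :
    D (KRR.cl X E) = ∑ i ∈ Finset.range (n + 1), coef n i • D (KRR.cl X (twu u ((i + 1 : ℕ) : ℤ) E)) := by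
  obtain ⟨ψ, hψ⟩ := K0Sub.exists_pull u
  obtain ⟨θ, hθ⟩ := K0Sub.exists_tensor E hE
  have hO : FlatMod.IsFinLocFree (Coh.structureModule (KRR.PY n Y)) :=
    Euler.isFinLocFree_of_isInvertible Euler.isInvertible_structure
  have hiso : ∀ {M N : X.Modules}, FlatMod.IsFinLocFree M → (M ≅ N) → KRR.cl X M = KRR.cl X N := fun hM e =>
    K0Sub.clSub_eq_of_iso (P := KRR.vbP X) e hM (DCoh.isFinLocFree_of_iso e hM) fun Z hZ => DCoh.isFinLocFree_of_isZero hZ
  have h := congrArg (D.comp (θ.comp ψ)) (vb_relation (n := n) (T := Y) hO)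
  simp only [AddMonoidHom.comp_apply, map_sum, map_zsmul] at h
  rw [hψ _ hO, hθ _ (OX.isFinLocFree_pullback u hO)] at h
  have e0 : CohB1.tensorMod ((Scheme.Modules.pullback u).obj (Coh.structureModule (KRR.PY n Y))) E ≅ E :=
    tnIso (OX.pullUnitIso u) (Iso.refl E) ≪≫ OX.tensorUnitLeftIso E
  refine ((congrArg D (hiso (OX.isFinLocFree_tensor (OX.isFinLocFree_pullback u hO) hE) e0)).symm.trans h).trans (Finset.sum_congr rfl fun i _ => congrArg (coef n i • ·) (congrArg D ?_))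
  have hT := RegSheaf.isFinLocFree_twF hO (((i + 1 : ℕ)) : ℤ)
  rw [hψ _ hT, hθ _ (OX.isFinLocFree_pullback u hT)]
  obtain ⟨e⟩ := nonempty_twF_structure (n := n) (Y := Y) (((i + 1 : ℕ)) : ℤ)
  exact hiso (OX.isFinLocFree_tensor (OX.isFinLocFree_pullback u hT) hE)
    (tnIso ((Scheme.Modules.pullback u).mapIso e) (Iso.refl E))

/-- An additive function which dies on the large twists of a bundle vanishes on it. -/
theorem add_eq_zero_at [IsLocallyNoetherian X] {G : Type*} [AddCommGroup G] (u : X ⟶ KRR.PY n Y)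
    (D : SGA6.Kvb X →+ G) {E : X.Modules} (hE : FlatMod.IsFinLocFree E)
    (h : ∃ a₀ : ℕ, ∀ a : ℕ, a₀ ≤ a → D (KRR.cl X (twu u (a : ℤ) E)) = 0) : D (KRR.cl X E) = 0 := by
  obtain ⟨a₀, ha₀⟩ := h
  have hiso : ∀ {M N : X.Modules}, FlatMod.IsFinLocFree M → (M ≅ N) → KRR.cl X M = KRR.cl X N := fun hM e =>
    K0Sub.clSub_eq_of_iso (P := KRR.vbP X) e hM (DCoh.isFinLocFree_of_iso e hM) fun Z hZ => DCoh.isFinLocFree_of_isZero hZ
  have key : ∀ d a : ℕ, a₀ ≤ a + d → D (KRR.cl X (twu u (a : ℤ) E)) = 0 := by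
    intro d
    induction d with
    | zero => exact fun a ha => ha₀ a (by omega)
    | succ d ih =>
      intro a ha
      rw [add_relation u D (isFinLocFree_twu u _ hE)]
      refine Finset.sum_eq_zero fun i _ => ?_
      obtain ⟨e⟩ := nonempty_twu_twu u (a := ((i + 1 : ℕ) : ℤ)) (b := (a : ℤ)) (c := ((a + (i + 1) : ℕ) : ℤ))
        (by push_cast; ring) E
      rw [hiso (isFinLocFree_twu u _ (isFinLocFree_twu u _ hE)) e, ih (a + (i + 1)) (by omega), smul_zero]
  obtain ⟨e⟩ := nonempty_twu_zero u E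
  rw [← hiso (isFinLocFree_twu u 0 hE) e]
  exact key a₀ 0 (by omega)

/-- An additive function which dies on large twists vanishes. -/
theorem add_eq_zero [IsLocallyNoetherian X] {G : Type*} [AddCommGroup G] (u : X ⟶ KRR.PY n Y)
    (D : SGA6.Kvb X →+ G)
    (h : ∀ E : X.Modules, FlatMod.IsFinLocFree E →
      ∃ a₀ : ℕ, ∀ a : ℕ, a₀ ≤ a → D (KRR.cl X (twu u (a : ℤ) E)) = 0) : D = 0 :=
  K0Sub.hom_ext (P := KRR.vbP X) fun E hE => add_eq_zero_at u D hE (h E hE)

end GrothLib.PushKR17
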